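import Mathlib
import Groth.Prelude.Def_LocRes

/-!
# Residues and the companion matrix of a local parameter

For `s = X ^ e * w` in `L⟦X⟧` the variable is a root of a monic polynomial of degree `e` over
`L⟦s⟧`; the traces of its powers are given by residues.
-/

set_option autoImplicit false

universe u

open scoped LaurentSeries

noncomputable section

namespace GrothLib.LocTrace1

variable {L : Type u} [Field L] {e : ℕ} {w s : PowerSeries L}

/-- Substitution of `s`. -/
def ev (hs : PowerSeries.HasSubst s) : PowerSeries L →ₐ[L] PowerSeries L := PowerSeries.substAlgHom hs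

theorem ev_X (hs : PowerSeries.HasSubst s) : ev hs PowerSeries.X = s := PowerSeries.substAlgHom_X hs

theorem ev_C (hs : PowerSeries.HasSubst s) (c : L) : ev hs (PowerSeries.C c) = PowerSeries.C c := by
  rw [← PowerSeries.algebraMap_eq, AlgHom.commutes]

theorem ev_split (hs : PowerSeries.HasSubst s) (c : PowerSeries L) :
    ev hs c = PowerSeries.C (PowerSeries.coeff 0 c) + s * ev hs (PowerSeries.mk fun m => PowerSeries.coeff (m + 1) c) := by
  conv_lhs => rw [PowerSeries.eq_X_mul_shift_add_const c]
  rw [map_add, map_mul, ev_X, ev_C, add_comm]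
  simp

section Coord

/-- The next series in the expansion. -/
def next (e : ℕ) (hw : IsUnit w) (z : PowerSeries L) : PowerSeries L :=
  (hw.unit⁻¹ : (PowerSeries L)ˣ) * PowerSeries.mk fun n => PowerSeries.coeff (n + e) z

/-- The coordinates of a series in the powers `X ^ j`, `j < e`, over the series in `s`. -/
def coord (e : ℕ) (hw : IsUnit w) (z : PowerSeries L) (j : ℕ) : PowerSeries L :=
  PowerSeries.mk fun m => PowerSeries.coeff j ((next e hw)^[m] z)

/-- The polynomial satisfied by `X` over the series in `s`. -/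
def poly (e : ℕ) (hw : IsUnit w) : Polynomial (PowerSeries L) :=
  Polynomial.X ^ e - ∑ j : Fin e, Polynomial.C (coord e hw (PowerSeries.X ^ e) j) * Polynomial.X ^ j.1


variable (hsw : s = PowerSeries.X ^ e * w) (hw : IsUnit w)
include hsw hw

theorem next_spec (z : PowerSeries L) :
    z = (∑ j : Fin e, PowerSeries.C (PowerSeries.coeff j.1 z) * PowerSeries.X ^ j.1) + s * next e hw z := by
  have h : s * next e hw z = PowerSeries.X ^ e * PowerSeries.mk fun n => PowerSeries.coeff (n + e) z := by
    rw [next, hsw, mul_assoc, ← mul_assoc w, IsUnit.mul_val_inv, one_mul]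
  rw [h]
  ext n
  rw [map_add, map_sum, PowerSeries.coeff_X_pow_mul']
  simp_rw [PowerSeries.coeff_C_mul_X_pow]
  rcases lt_or_ge n e with hn | hn
  · rw [if_neg (by omega), add_zero, Finset.sum_eq_single (⟨n, hn⟩ : Fin e)
      (fun j _ hj => if_neg fun h => hj (Fin.ext h.symm)) (fun h => absurd (Finset.mem_univ _) h), if_pos rfl]
  · rw [if_pos hn, PowerSeries.coeff_mk, Nat.sub_add_cancel hn,
      Finset.sum_eq_zero (fun (j : Fin e) _ => if_neg (by omega)), zero_add]

theorem coord_succ (z : PowerSeries L) (j : ℕ) :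
    (PowerSeries.mk fun m => PowerSeries.coeff (m + 1) (coord e hw z j)) = coord e hw (next e hw z) j := by
  ext m
  simp [coord, Function.iterate_succ_apply]

theorem eq_sum_coord (he : 1 ≤ e) (hs : PowerSeries.HasSubst s) (z : PowerSeries L) :
    z = ∑ j : Fin e, ev hs (coord e hw z j) * PowerSeries.X ^ j.1 := by
  let d : PowerSeries L → PowerSeries L := fun z =>
    z - ∑ j : Fin e, ev hs (coord e hw z j) * PowerSeries.X ^ j.1
  have hd : ∀ z, d z = s * d (next e hw z) := fun z => by
    simp only [d]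
    conv_lhs => enter [1]; rw [next_spec hsw hw z]
    simp_rw [ev_split hs (coord e hw z _), coord_succ hsw hw, mul_sub, Finset.mul_sum, add_mul,
      Finset.sum_add_distrib, mul_assoc]
    have h0 : ∀ j : Fin e, PowerSeries.coeff 0 (coord e hw z j.1) = PowerSeries.coeff j.1 z := fun j => by
      simp [coord]
    simp_rw [h0]
    abel
  have hN : ∀ N z, s ^ N ∣ d z := by
    intro N
    induction N with
    | zero => exact fun z => by rw [pow_zero]; exact one_dvd _
    | succ N ih =>
      intro z
      rw [hd z, pow_succ']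
      exact mul_dvd_mul_left _ (ih _)
  refine sub_eq_zero.1 ?_
  show d z = 0
  ext n
  rw [map_zero]
  have hdvd : PowerSeries.X ^ (n + 1) ∣ d z := by
    refine dvd_trans ?_ (hN (n + 1) z)
    rw [hsw, mul_pow, ← pow_mul]
    exact (pow_dvd_pow _ (Nat.le_mul_of_pos_left _ he)).trans (dvd_mul_right _ _)
  exact PowerSeries.X_pow_dvd_iff.1 hdvd n (Nat.lt_succ_self n)

theorem coord_unique (he : 1 ≤ e) (hs : PowerSeries.HasSubst s) (G : Fin e → PowerSeries L)
    (h : ∑ j : Fin e, ev hs (G j) * PowerSeries.X ^ j.1 = 0) : G = 0 := by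
  suffices key : ∀ (m : ℕ) (G : Fin e → PowerSeries L), ∑ j : Fin e, ev hs (G j) * PowerSeries.X ^ j.1 = 0 →
      ∀ j, PowerSeries.coeff m (G j) = 0 from funext fun j => PowerSeries.ext fun m => key m G h j
  intro m
  have hs0 : s ≠ 0 := by
    rw [hsw]
    exact mul_ne_zero (pow_ne_zero _ PowerSeries.X_ne_zero) hw.ne_zero
  have h0 : ∀ G : Fin e → PowerSeries L, ∑ j : Fin e, ev hs (G j) * PowerSeries.X ^ j.1 = 0 →
      ∀ j, PowerSeries.coeff 0 (G j) = 0 := fun G hG i => by
    simp_rw [ev_split hs (G _), add_mul, Finset.sum_add_distrib, mul_assoc, ← Finset.mul_sum, hsw,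
      mul_assoc] at hG
    have := congrArg (PowerSeries.coeff i.1) hG
    rw [map_add, map_sum, PowerSeries.coeff_X_pow_mul', if_neg (by omega), add_zero, map_zero] at this
    simp_rw [PowerSeries.coeff_C_mul_X_pow] at this
    rwa [Finset.sum_eq_single i (fun j _ hj => if_neg fun h => hj (Fin.ext h.symm))
      (fun h => absurd (Finset.mem_univ _) h), if_pos rfl] at this
  induction m with
  | zero => exact h0
  | succ m ih =>
    intro G hG j
    have := ih (fun j => PowerSeries.mk fun m => PowerSeries.coeff (m + 1) (G j)) (by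
      refine (mul_eq_zero.1 ?_).resolve_left hs0
      rw [Finset.mul_sum, ← hG]
      refine Finset.sum_congr rfl fun i _ => ?_
      rw [ev_split hs (G i), h0 G hG i, map_zero, zero_add, mul_assoc]) j
    simpa using this

end Coord

/-! ### The ring `L⸨X⸩⟦u⟧` -/

/-- Constants in `u`. -/
def Cu : PowerSeries L →+* PowerSeries L⸨X⸩ := PowerSeries.map HahnSeries.C

/-- A monomial. -/
def tm (m : ℤ) : PowerSeries L⸨X⸩ := PowerSeries.C (HahnSeries.single m (1 : L))

theorem tm_add (m n : ℤ) : (tm (m + n) : PowerSeries L⸨X⸩) = tm m * tm n := by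
  rw [tm, tm, tm, ← map_mul, HahnSeries.single_mul_single, one_mul]

theorem tm_zero : (tm 0 : PowerSeries L⸨X⸩) = 1 := by
  rw [tm, ← HahnSeries.C_apply, map_one, map_one]

theorem tm_pow (n : ℕ) : (tm 1 : PowerSeries L⸨X⸩) ^ n = tm (n : ℤ) := by
  induction n with
  | zero => rw [pow_zero, Nat.cast_zero, tm_zero]
  | succ n ih => rw [pow_succ, ih, ← tm_add]; push_cast; rfl

/-- The residue, coefficientwise. -/
def rho : PowerSeries L⸨X⸩ →+ PowerSeries L where
  toFun F := PowerSeries.mk fun n => LocRes.res L (PowerSeries.coeff n F)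
  map_zero' := by ext n; simp
  map_add' F G := by ext n; simp

theorem coeff_rho (F : PowerSeries L⸨X⸩) (n : ℕ) :
    PowerSeries.coeff n (rho F) = LocRes.res L (PowerSeries.coeff n F) := by simp [rho]

theorem rho_Cu_mul (a : PowerSeries L) (F : PowerSeries L⸨X⸩) : rho (Cu a * F) = a * rho F := by
  ext n
  rw [coeff_rho, PowerSeries.coeff_mul, map_sum, PowerSeries.coeff_mul]
  refine Finset.sum_congr rfl fun q _ => ?_
  rw [coeff_rho, Cu, PowerSeries.coeff_map, LocRes.res_apply, LocRes.res_apply, HahnSeries.C_mul_eq_smul,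
    HahnSeries.coeff_smul, smul_eq_mul]

theorem rho_tm (m : ℤ) : rho (tm m : PowerSeries L⸨X⸩) = if m = -1 then 1 else 0 := by
  ext n
  rw [coeff_rho, tm, PowerSeries.coeff_C]
  split_ifs with h1 h2 h2 <;> simp [HahnSeries.coeff_single, PowerSeries.coeff_one, h1, h2, eq_comm]

/-- Polynomials in the inverse variable. -/
def iota : Polynomial L →+* L⸨X⸩ := Polynomial.eval₂RingHom HahnSeries.C (HahnSeries.single (-1 : ℤ) (1 : L))

theorem rho_tm_mul_iota {m : ℤ} (hm : m ≤ -2) (G : PowerSeries (Polynomial L)) :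
    rho (tm m * PowerSeries.map iota G) = 0 := by
  ext n
  rw [coeff_rho, tm, PowerSeries.coeff_C_mul, PowerSeries.coeff_map, map_zero]
  induction PowerSeries.coeff n G using Polynomial.induction_on' with
  | add p q hp hq => rw [map_add, mul_add, map_add, hp, hq, add_zero]
  | monomial i c =>
    rw [iota, Polynomial.coe_eval₂RingHom, Polynomial.eval₂_monomial, HahnSeries.single_pow, one_pow,
      HahnSeries.C_apply, HahnSeries.single_mul_single, HahnSeries.single_mul_single, LocRes.res_apply,
      HahnSeries.coeff_single_of_ne]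
    rw [nsmul_eq_mul, zero_add]; omega

theorem rho_coe (F : PowerSeries (PowerSeries L)) :
    rho (PowerSeries.map (HahnSeries.ofPowerSeries ℤ L) F) = 0 := by
  ext n
  rw [coeff_rho, PowerSeries.coeff_map, map_zero, LocRes.res_apply, PowerSeries.coeff_coe,
    if_pos (by norm_num)]

/-- The derivative in the variable, coefficientwise. -/
def Dt : PowerSeries L⸨X⸩ →+ PowerSeries L⸨X⸩ where
  toFun F := PowerSeries.mk fun n => LocRes.D L (PowerSeries.coeff n F)
  map_zero' := by ext n; simp
  map_add' F G := by ext n; simp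

theorem coeff_Dt (F : PowerSeries L⸨X⸩) (n : ℕ) :
    PowerSeries.coeff n (Dt F) = LocRes.D L (PowerSeries.coeff n F) := by simp [Dt]

theorem Dt_mul (F G : PowerSeries L⸨X⸩) : Dt (F * G) = F * Dt G + G * Dt F := by
  ext n : 1
  rw [mul_comm G (Dt F), coeff_Dt, PowerSeries.coeff_mul, map_sum, map_add, PowerSeries.coeff_mul,
    PowerSeries.coeff_mul, ← Finset.sum_add_distrib]
  refine Finset.sum_congr rfl fun q _ => ?_
  rw [Derivation.leibniz, smul_eq_mul, smul_eq_mul, coeff_Dt, coeff_Dt]
  ring

theorem Dt_C (f : L⸨X⸩) : Dt (PowerSeries.C f) = PowerSeries.C (LocRes.D L f) := by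
  ext n : 1
  rw [coeff_Dt, PowerSeries.coeff_C, PowerSeries.coeff_C]
  split_ifs <;> simp

theorem Dt_Cu (a : PowerSeries L) : Dt (Cu a) = 0 := by
  ext n : 1
  rw [coeff_Dt, Cu, PowerSeries.coeff_map, map_zero, LocRes.D_apply, LocRes.derivative_C]

theorem Dt_tm (n : ℕ) : Dt (tm (n : ℤ) : PowerSeries L⸨X⸩) = (n : PowerSeries L⸨X⸩) * tm ((n : ℤ) - 1) := by
  rw [tm, Dt_C, LocRes.D_apply, ← mul_one (HahnSeries.single (n : ℤ) (1 : L)), LocRes.derivative_single_mul,
    show LaurentSeries.derivative L (1 : L⸨X⸩) = 0 from (LocRes.D L).map_one_eq_zero, mul_zero, zero_add,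
    mul_one, tm, ← map_natCast (PowerSeries.C (R := L⸨X⸩)) n, ← map_mul,
    ← map_natCast (HahnSeries.C (Γ := ℤ) (R := L)) n, HahnSeries.C_apply, HahnSeries.single_mul_single,
    zero_add, zsmul_one, mul_one, Int.cast_natCast]

/-- Evaluation of polynomials at the variable. -/
def Ev : Polynomial (PowerSeries L) →+* PowerSeries L⸨X⸩ := Polynomial.eval₂RingHom Cu (tm 1)

theorem Ev_monomial (n : ℕ) (a : PowerSeries L) : Ev (Polynomial.monomial n a) = Cu a * tm (n : ℤ) := by
  rw [Ev, Polynomial.coe_eval₂RingHom, Polynomial.eval₂_monomial, tm_pow]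

theorem Dt_Ev (f : Polynomial (PowerSeries L)) : Dt (Ev f) = Ev (Polynomial.derivative f) := by
  induction f using Polynomial.induction_on' with
  | add p q hp hq => simp only [map_add, hp, hq]
  | monomial n a =>
    rw [Ev_monomial, Dt_mul, Dt_Cu, mul_zero, add_zero, Dt_tm, Polynomial.derivative_monomial, Ev_monomial,
      map_mul, map_natCast]
    rcases n with _ | n
    · simp
    · rw [show ((n + 1 : ℕ) : ℤ) - 1 = ((n + 1 - 1 : ℕ) : ℤ) by omega, mul_assoc]

theorem rho_Ev (f : Polynomial (PowerSeries L)) : rho (Ev f) = 0 := by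
  induction f using Polynomial.induction_on' with
  | add p q hp hq => rw [map_add, map_add, hp, hq, add_zero]
  | monomial n a => rw [Ev_monomial, rho_Cu_mul, rho_tm, if_neg (by omega), mul_zero]

/-- The divided difference at `u = s`. -/
def divDiff (hs : PowerSeries.HasSubst s) (a : PowerSeries L) : PowerSeries (PowerSeries L) :=
  PowerSeries.mk fun n => ev hs (PowerSeries.mk fun m => PowerSeries.coeff (m + (n + 1)) a)

theorem divDiff_spec (hs : PowerSeries.HasSubst s) (a : PowerSeries L) :
    PowerSeries.map PowerSeries.C a =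
      PowerSeries.C (ev hs a) + (PowerSeries.X - PowerSeries.C s) * divDiff hs a := by
  ext n : 1
  rw [PowerSeries.coeff_map, map_add, sub_mul, map_sub, PowerSeries.coeff_C_mul, PowerSeries.coeff_C]
  rcases n with _ | n
  · rw [if_pos rfl, PowerSeries.coeff_zero_X_mul, zero_sub, divDiff, PowerSeries.coeff_mk, ev_split hs a]
    simp only [zero_add]
    ring
  · rw [if_neg (by omega), zero_add, PowerSeries.coeff_succ_X_mul, divDiff, PowerSeries.coeff_mk,
      PowerSeries.coeff_mk]
    conv_rhs => rw [ev_split hs (PowerSeries.mk fun m => PowerSeries.coeff (m + (n + 1)) a)]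
    simp only [PowerSeries.coeff_mk, zero_add, add_sub_assoc]
    rw [show (fun m => PowerSeries.coeff (m + 1 + (n + 1)) a) = fun m => PowerSeries.coeff (m + (n + 1 + 1)) a from
      funext fun m => by rw [add_assoc, add_comm 1 (n + 1)], sub_self, add_zero]

/-- The trace of a power of the variable is given by residues. -/
theorem residue_eq_trace (he : 1 ≤ e) (hsw : s = PowerSeries.X ^ e * w) (hw : IsUnit w)
    (hs : PowerSeries.HasSubst s) (l m : ℕ) :
    LocRes.res L (HahnSeries.single (l : ℤ) 1 * LocRes.D L (s : L⸨X⸩) * ((s : L⸨X⸩) ^ (m + 1))⁻¹) =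
      PowerSeries.coeff m (∑ j : Fin e, (Polynomial.X ^ (l + j.1) %ₘ poly e hw).coeff j.1) := by
  classical
  set P := poly e hw with hP
  let p : ℕ → PowerSeries L := fun k =>
    if k = e then 1 else -coord e hw (PowerSeries.X ^ e) k
  have hPsum : P = ∑ k ∈ Finset.range (e + 1), Polynomial.monomial k (p k) := by
    rw [Finset.sum_range_succ, hP, poly, ← Fin.sum_univ_eq_sum_range (fun k => Polynomial.monomial k (p k))]
    simp only [p, if_pos, Polynomial.monomial_one_right_eq_X_pow]
    rw [sub_eq_neg_add, ← Finset.sum_neg_distrib]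
    congr 1
    refine Finset.sum_congr rfl fun j _ => ?_
    rw [if_neg (ne_of_lt j.2), map_neg, Polynomial.C_mul_X_pow_eq_monomial]
  have hmonic : P.Monic := by
    refine Polynomial.monic_X_pow_sub ((Polynomial.degree_sum_le _ _).trans_lt ?_)
    refine (Finset.sup_lt_iff (WithBot.bot_lt_coe e)).2 ?_
    exact fun j _ => (Polynomial.degree_C_mul_X_pow_le _ _).trans_lt (WithBot.coe_lt_coe.2 j.2)
  have hdeg : P.degree = e := by
    refine (Polynomial.degree_sub_eq_left_of_degree_lt ?_).trans (Polynomial.degree_X_pow e)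
    rw [Polynomial.degree_X_pow]
    refine (Polynomial.degree_sum_le _ _).trans_lt ?_
    refine (Finset.sup_lt_iff (WithBot.bot_lt_coe e)).2 ?_
    exact fun j _ => (Polynomial.degree_C_mul_X_pow_le _ _).trans_lt (WithBot.coe_lt_coe.2 j.2)
  have hp0 : ∀ k < e, PowerSeries.coeff 0 (p k) = 0 := fun k hk => by
    simp [p, if_neg hk.ne, coord, PowerSeries.coeff_X_pow, hk.ne]
  -- the inverse, expanded in descending powers of the variable
  let Pt : PowerSeries (Polynomial L) :=
    ∑ k ∈ Finset.range (e + 1), PowerSeries.map Polynomial.C (p k) * PowerSeries.C (Polynomial.X ^ (e - k))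
  have hPt1 : PowerSeries.constantCoeff Pt = 1 := by
    rw [map_sum, Finset.sum_range_succ, Finset.sum_eq_zero (fun k hk => ?_)]
    · simp [p]
    · have h0 := hp0 k (Finset.mem_range.1 hk)
      rw [PowerSeries.coeff_zero_eq_constantCoeff_apply] at h0
      rw [map_mul, ← PowerSeries.coeff_zero_eq_constantCoeff_apply, PowerSeries.coeff_map,
        PowerSeries.coeff_zero_eq_constantCoeff_apply, h0, map_zero, zero_mul]
  obtain ⟨I, hI⟩ : ∃ I, Pt * I = 1 := ⟨Pt.invOfUnit 1, PowerSeries.mul_invOfUnit _ _ (by rw [hPt1]; rfl)⟩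
  have hιC : ∀ c : L, iota (Polynomial.C c) = HahnSeries.C c := fun c => by
    rw [iota, Polynomial.coe_eval₂RingHom, Polynomial.eval₂_C]
  have hEvP : Ev P = tm (e : ℤ) * PowerSeries.map iota Pt := by
    rw [hPsum, map_sum, map_sum, Finset.mul_sum]
    refine Finset.sum_congr rfl fun k hk => ?_
    rw [Finset.mem_range] at hk
    rw [Ev_monomial, map_mul, PowerSeries.map_C, map_pow]
    have h1 : PowerSeries.map iota (PowerSeries.map Polynomial.C (p k)) = Cu (p k) := by
      ext n : 1; rw [Cu, PowerSeries.coeff_map, PowerSeries.coeff_map, PowerSeries.coeff_map, hιC]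
    have h2 : PowerSeries.C (iota (Polynomial.X : Polynomial L) ^ (e - k)) = tm (-((e - k : ℕ) : ℤ)) := by
      rw [iota, Polynomial.coe_eval₂RingHom, Polynomial.eval₂_X, HahnSeries.single_pow, one_pow, tm, nsmul_eq_mul,
        mul_neg_one]
    rw [h1, h2, mul_left_comm, ← tm_add]
    congr 2
    omega
  let PI : PowerSeries L⸨X⸩ := tm (-(e : ℤ)) * PowerSeries.map iota I
  have hPI : Ev P * PI = 1 := by
    rw [hEvP, mul_mul_mul_comm, ← tm_add, add_neg_cancel, tm_zero, ← map_mul, hI, map_one, one_mul]
  -- extraction of coefficients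
  let Q : ℕ → Polynomial (PowerSeries L) := fun j =>
    ∑ k ∈ Finset.range (e + 1), if j < k then Polynomial.monomial (k - (j + 1)) (p k) else 0
  have hext : ∀ j < e, ∀ f, rho (Ev (f * Q j) * PI) = (f %ₘ P).coeff j := by
    intro j hj f
    conv_lhs => rw [← Polynomial.modByMonic_add_div f P, add_mul, map_add, add_mul,
      show P * (f /ₘ P) * Q j = (f /ₘ P * Q j) * P by ring, map_mul _ _ P, mul_assoc _ (Ev P), hPI, mul_one,
      map_add, rho_Ev, add_zero]
    have hlt : (f %ₘ P).natDegree < e := by
      rcases eq_or_ne (f %ₘ P) 0 with h | h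
      · rw [h, Polynomial.natDegree_zero]; omega
      · exact (Polynomial.natDegree_lt_iff_degree_lt h).2 ((Polynomial.degree_modByMonic_lt f hmonic).trans_eq hdeg)
    conv_lhs => rw [(f %ₘ P).as_sum_range' e hlt]
    rw [Finset.sum_mul, map_sum, Finset.sum_mul, map_sum, Finset.sum_eq_single j]
    rotate_left
    · intro i hi hij
      rw [Finset.mem_range] at hi
      have hi' : rho (Ev (Polynomial.X ^ i * Q j) * PI) = if i = j then 1 else 0 := ?_
      · rw [← Polynomial.C_mul_X_pow_eq_monomial, mul_assoc (Polynomial.C _), map_mul Ev, mul_assoc (Ev _), Ev, Polynomial.coe_eval₂RingHom,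
          Polynomial.eval₂_C, ← Polynomial.coe_eval₂RingHom, ← Ev, rho_Cu_mul, hi', if_neg hij, mul_zero]
      · have hsplit : Ev (Polynomial.X ^ i * Q j) = tm ((i : ℤ) - ((j + 1 : ℕ) : ℤ)) * Ev P -
            ∑ k ∈ Finset.range (e + 1), if j < k then 0 else Cu (p k) * tm ((i : ℤ) - ((j + 1 : ℕ) : ℤ) + k) := by
          rw [map_mul, map_pow, hPsum, map_sum, map_sum, Finset.mul_sum, Finset.mul_sum, ← Finset.sum_sub_distrib]
          refine Finset.sum_congr rfl fun k _ => ?_
          rw [Ev_monomial]
          split_ifs with h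
          · rw [Ev_monomial, Ev, Polynomial.coe_eval₂RingHom, Polynomial.eval₂_X, tm_pow, sub_zero,
              mul_left_comm, ← tm_add, mul_left_comm _ (Cu (p k)), ← tm_add]
            congr 2
            omega
          · rw [map_zero, mul_zero, mul_left_comm, ← tm_add, sub_self]
        rw [hsplit, sub_mul, map_sub, mul_assoc, hPI, mul_one, rho_tm, Finset.sum_mul, map_sum,
          Finset.sum_eq_zero (fun k hk => ?_), sub_zero]
        · exact if_congr (by omega) rfl rfl
        · split_ifs with h
          · rw [zero_mul, map_zero]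
          · rw [mul_assoc, rho_Cu_mul, ← mul_assoc, ← tm_add, rho_tm_mul_iota (by omega), mul_zero]
    · exact fun h => absurd (Finset.mem_range.2 hj) h
    have hj' : rho (Ev (Polynomial.X ^ j * Q j) * PI) = 1 := ?_
    · rw [← Polynomial.C_mul_X_pow_eq_monomial, mul_assoc (Polynomial.C _), map_mul Ev, mul_assoc (Ev _), Ev, Polynomial.coe_eval₂RingHom,
        Polynomial.eval₂_C, ← Polynomial.coe_eval₂RingHom, ← Ev, rho_Cu_mul, hj', mul_one]
    · have hsplit : Ev (Polynomial.X ^ j * Q j) = tm ((j : ℤ) - ((j + 1 : ℕ) : ℤ)) * Ev P -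
          ∑ k ∈ Finset.range (e + 1), if j < k then 0 else Cu (p k) * tm ((j : ℤ) - ((j + 1 : ℕ) : ℤ) + k) := by
        rw [map_mul, map_pow, hPsum, map_sum, map_sum, Finset.mul_sum, Finset.mul_sum, ← Finset.sum_sub_distrib]
        refine Finset.sum_congr rfl fun k _ => ?_
        rw [Ev_monomial]
        split_ifs with h
        · rw [Ev_monomial, Ev, Polynomial.coe_eval₂RingHom, Polynomial.eval₂_X, tm_pow, sub_zero,
            mul_left_comm, ← tm_add, mul_left_comm _ (Cu (p k)), ← tm_add]
          congr 2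
          omega
        · rw [map_zero, mul_zero, mul_left_comm, ← tm_add, sub_self]
      rw [hsplit, sub_mul, map_sub, mul_assoc, hPI, mul_one, rho_tm, Finset.sum_mul, map_sum,
        Finset.sum_eq_zero (fun k hk => ?_), sub_zero, if_pos (by omega)]
      split_ifs with h
      · rw [zero_mul, map_zero]
      · rw [mul_assoc, rho_Cu_mul, ← mul_assoc, ← tm_add, rho_tm_mul_iota (by omega), mul_zero]
  -- the sum is the residue of the logarithmic derivative
  have hderiv : Polynomial.derivative P = ∑ j : Fin e, Polynomial.X ^ j.1 * Q j := by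
    rw [Fin.sum_univ_eq_sum_range (fun j => Polynomial.X ^ j * Q j)]
    simp only [Q, Finset.mul_sum]
    rw [Finset.sum_comm, hPsum, map_sum]
    refine Finset.sum_congr rfl fun k hk => ?_
    rw [Finset.mem_range] at hk
    have : ∀ j ∈ Finset.range e, (Polynomial.X ^ j * if j < k then Polynomial.monomial (k - (j + 1)) (p k) else 0) =
        if j < k then Polynomial.monomial (k - 1) (p k) else 0 := fun j _ => by
      split_ifs with h
      · rw [Polynomial.X_pow_mul_monomial]; congr 2; omega
      · rw [mul_zero]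
    rw [Finset.sum_congr rfl this, ← Finset.sum_filter,
      show (Finset.range e).filter (· < k) = Finset.range k by ext j; simp; omega, Finset.sum_const,
      Finset.card_range, Polynomial.derivative_monomial, ← map_nsmul, nsmul_eq_mul, mul_comm]
  have hsum : (∑ j : Fin e, (Polynomial.X ^ (l + j.1) %ₘ P).coeff j.1) =
      rho (Ev (Polynomial.X ^ l * Polynomial.derivative P) * PI) := by
    rw [hderiv, Finset.mul_sum, map_sum, Finset.sum_mul, map_sum]
    refine Finset.sum_congr rfl fun j _ => ?_
    rw [← mul_assoc (Polynomial.X ^ l), ← pow_add, hext j.1 j.2]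
  -- the factorisation at `u = s`
  let Q0 : PowerSeries (PowerSeries L) :=
    ∑ k ∈ Finset.range (e + 1), divDiff hs (p k) * PowerSeries.C (PowerSeries.X ^ k)
  have hroot : ∑ k ∈ Finset.range (e + 1), ev hs (p k) * PowerSeries.X ^ k = 0 := by
    rw [Finset.sum_range_succ, ← Fin.sum_univ_eq_sum_range (fun k => ev hs (p k) * PowerSeries.X ^ k)]
    simp only [p, if_pos, map_one, one_mul]
    conv_lhs => enter [2]; rw [eq_sum_coord hsw hw he hs (PowerSeries.X ^ e)]
    rw [← Finset.sum_add_distrib]
    refine Finset.sum_eq_zero fun j _ => ?_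
    rw [if_neg (ne_of_lt j.2), map_neg, neg_mul, neg_add_cancel]
  have hfac0 : ∑ k ∈ Finset.range (e + 1), PowerSeries.map PowerSeries.C (p k) * PowerSeries.C (PowerSeries.X ^ k) =
      (PowerSeries.X - PowerSeries.C s) * Q0 := by
    simp_rw [divDiff_spec hs, add_mul, Finset.sum_add_distrib, ← map_mul, ← map_sum, hroot, map_zero, zero_add,
      mul_assoc, ← Finset.mul_sum]
    rfl
  have hQ0 : IsUnit Q0 := by
    refine PowerSeries.isUnit_iff_constantCoeff.2 ?_
    have h := congrArg PowerSeries.constantCoeff hfac0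
    rw [map_sum, Finset.sum_range_succ, Finset.sum_eq_zero (fun k hk => ?_), map_mul, map_mul, map_sub,
      PowerSeries.constantCoeff_X, PowerSeries.constantCoeff_C, PowerSeries.constantCoeff_C, zero_add, zero_sub,
      neg_mul] at h
    · simp only [p, if_pos, map_one, one_mul] at h
      rw [hsw, mul_assoc, neg_mul_eq_mul_neg] at h
      conv_lhs at h => rw [← mul_one (PowerSeries.X ^ e)]
      have h' := mul_left_cancel₀ (pow_ne_zero _ PowerSeries.X_ne_zero) h
      exact IsUnit.of_mul_eq_one (-w) (by rw [h']; ring)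
    · have h0 := hp0 k (Finset.mem_range.1 hk)
      rw [map_mul, ← PowerSeries.coeff_zero_eq_constantCoeff_apply, PowerSeries.coeff_map, h0, map_zero, zero_mul]
  let J := PowerSeries.map (HahnSeries.ofPowerSeries ℤ L)
  have hJC : ∀ a : PowerSeries L, J (PowerSeries.map PowerSeries.C a) = Cu a := fun a => by
    ext n : 1; rw [Cu, PowerSeries.coeff_map, PowerSeries.coeff_map, PowerSeries.coeff_map, HahnSeries.ofPowerSeries_C]
  have hEvPfac : Ev P = (PowerSeries.X - PowerSeries.C (s : L⸨X⸩)) * J Q0 := by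
    have h := congrArg J hfac0
    rw [map_mul, map_sub, PowerSeries.map_X, PowerSeries.map_C, map_sum] at h
    rw [← h, hPsum, map_sum]
    refine Finset.sum_congr rfl fun k _ => ?_
    rw [Ev_monomial, map_mul, hJC, PowerSeries.map_C, HahnSeries.ofPowerSeries_X_pow]
    rfl
  obtain ⟨Q0', hQ0'⟩ := hQ0.exists_right_inv
  have hDJ : ∀ F : PowerSeries (PowerSeries L),
      Dt (J F) = J (PowerSeries.mk fun n => PowerSeries.derivative L (PowerSeries.coeff n F)) := fun F => by
    ext n : 1
    rw [coeff_Dt, PowerSeries.coeff_map, PowerSeries.coeff_map, PowerSeries.coeff_mk]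
    exact LocRes.D_coe L _
  have hs0 : (s : L⸨X⸩) ≠ 0 := by
    intro h
    have : s = 0 := HahnSeries.ofPowerSeries_injective (h.trans (map_zero _).symm)
    rw [hsw] at this
    exact mul_ne_zero (pow_ne_zero _ PowerSeries.X_ne_zero) hw.ne_zero this
  let G : PowerSeries L⸨X⸩ := PowerSeries.mk fun n => LocRes.D L (s : L⸨X⸩) * ((s : L⸨X⸩) ^ (n + 1))⁻¹
  have hG : (PowerSeries.X - PowerSeries.C (s : L⸨X⸩)) * G = - PowerSeries.C (LocRes.D L (s : L⸨X⸩)) := by
    ext n : 1
    rw [sub_mul, map_sub, PowerSeries.coeff_C_mul, map_neg, PowerSeries.coeff_C]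
    rcases n with _ | n
    · rw [PowerSeries.coeff_zero_X_mul, PowerSeries.coeff_mk, if_pos rfl, zero_add, pow_one, zero_sub,
        mul_left_comm, mul_inv_cancel₀ hs0, mul_one]
    · rw [PowerSeries.coeff_succ_X_mul, PowerSeries.coeff_mk, PowerSeries.coeff_mk, if_neg (by omega), neg_zero,
        pow_succ' _ (n + 1), mul_inv, mul_left_comm (s : L⸨X⸩), mul_inv_cancel_left₀ hs0, sub_self]
  have hPI' : PI = J Q0' * (Ev P * PI) * PI * J Q0 := by
    rw [hPI, mul_one, mul_right_comm, mul_comm _ (J Q0), ← map_mul, hQ0', map_one, one_mul]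
  have hlog : Ev (Polynomial.X ^ l * Polynomial.derivative P) * PI =
      tm (l : ℤ) * G + tm (l : ℤ) * J ((PowerSeries.mk fun n => PowerSeries.derivative L (PowerSeries.coeff n Q0)) * Q0') := by
    have h1 : Ev (Polynomial.derivative P) =
        (PowerSeries.X - PowerSeries.C (s : L⸨X⸩)) * Dt (J Q0) - J Q0 * PowerSeries.C (LocRes.D L (s : L⸨X⸩)) := by
      rw [← Dt_Ev, hEvPfac, Dt_mul, map_sub, Dt_C,
        show Dt (PowerSeries.X : PowerSeries L⸨X⸩) = 0 from PowerSeries.ext fun n => by
          rw [coeff_Dt, map_zero, PowerSeries.coeff_X]; split_ifs <;> simp]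
      ring
    have h2 : Ev (Polynomial.derivative P) = Ev P * (G + Dt (J Q0) * J Q0') := by
      rw [h1, hEvPfac, mul_add, mul_mul_mul_comm _ (J Q0) (Dt (J Q0)), ← map_mul J, hQ0', map_one, mul_one,
        mul_right_comm, hG]
      ring
    rw [map_mul, h2, map_pow, Ev, Polynomial.coe_eval₂RingHom, Polynomial.eval₂_X, ← Polynomial.coe_eval₂RingHom,
      ← Ev, tm_pow, mul_assoc, mul_right_comm (Ev P), hPI, one_mul, mul_add, hDJ, map_mul]
  rw [hsum, hlog, map_add, map_add, tm, show PowerSeries.C (HahnSeries.single (l : ℤ) (1 : L)) =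
    J (PowerSeries.C (PowerSeries.X ^ l)) by rw [PowerSeries.map_C, HahnSeries.ofPowerSeries_X_pow], ← map_mul J,
    rho_coe, map_zero, add_zero, coeff_rho, PowerSeries.map_C, PowerSeries.coeff_C_mul, PowerSeries.coeff_mk,
    HahnSeries.ofPowerSeries_X_pow, mul_assoc]

end GrothLib.LocTrace1
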