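import Groth.Agent.Lib.LocTrace1.Main
import Groth.Agent.Lib.LocRes.Basic

/-!
# The trace formula at a finite separable extension of a complete field
-/

set_option autoImplicit false

universe u v

open scoped LaurentSeries

noncomputable section

namespace GrothLib.LocTrace1

/-- A substitution homomorphism whose image is contained in a subfield with residue field `L` and a
parameter of order one: the subfield is everything. -/
theorem surjective_of_approx {K L : Type u} [Field K] [Field L] [Algebra K L] [FiniteDimensional K L]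
    {σ : K⸨X⸩ →+* L⸨X⸩} {s w : PowerSeries L} {e : ℕ} (hσ : IsSubst σ s)
    (hsw : s = PowerSeries.X ^ e * w) (hw : IsUnit w) (he : 1 ≤ e) (hs : PowerSeries.HasSubst s)
    (V : Subfield L⸨X⸩) (hσV : ∀ g, σ g ∈ V) (hC : ∀ c : L, HahnSeries.C c ∈ V)
    (u₀ : PowerSeries L) (hu₀ : PowerSeries.constantCoeff u₀ ≠ 0)
    (hτ : ((PowerSeries.X * u₀ : PowerSeries L) : L⸨X⸩) ∈ V) : ∀ z, z ∈ V := by
  letI := σ.toAlgebra
  let ω := Module.finBasis K L
  obtain ⟨b, hb⟩ := exists_basis hσ hsw hw he hs ω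
  have happ : ∀ (z : PowerSeries L) (i : ℕ), ∃ y : PowerSeries L, (y : L⸨X⸩) ∈ V ∧ PowerSeries.X ^ i ∣ z - y := by
    intro z i
    induction i with
    | zero => exact ⟨0, by rw [PowerSeries.coe_zero]; exact V.zero_mem, by rw [pow_zero]; exact one_dvd _⟩
    | succ i ih =>
      obtain ⟨y, hy, d, hd⟩ := ih
      set c := PowerSeries.constantCoeff d / PowerSeries.constantCoeff u₀ ^ i
      refine ⟨y + PowerSeries.C c * (PowerSeries.X * u₀) ^ i, ?_, ?_⟩
      · rw [PowerSeries.coe_add, PowerSeries.coe_mul, PowerSeries.coe_C, coe_pow']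
        exact V.add_mem hy (V.mul_mem (hC c) (pow_mem hτ i))
      · rw [show z - (y + PowerSeries.C c * (PowerSeries.X * u₀) ^ i) =
          PowerSeries.X ^ i * (d - PowerSeries.C c * u₀ ^ i) by rw [← sub_sub, hd]; ring, pow_succ]
        refine mul_dvd_mul_left _ (PowerSeries.X_dvd_iff.2 ?_)
        rw [map_sub, map_mul, map_pow, PowerSeries.constantCoeff_C, div_mul_cancel₀ _ (pow_ne_zero _ hu₀), sub_self]
  choose y hyV hy using fun a : Fin (Module.finrank K L) × Fin e =>
    happ (PowerSeries.C (ω a.1) * PowerSeries.X ^ a.2.1) e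
  have hs0 : s ≠ 0 := by
    rw [hsw]; exact mul_ne_zero (pow_ne_zero _ PowerSeries.X_ne_zero) hw.ne_zero
  have hrel : ∀ (m : ℕ) (p : Fin (Module.finrank K L) × Fin e → PowerSeries K),
      ∑ a, ev hs (PowerSeries.map (algebraMap K L) (p a)) * y a = 0 → ∀ a, PowerSeries.coeff m (p a) = 0 := by
    intro m
    have h0 : ∀ p : Fin (Module.finrank K L) × Fin e → PowerSeries K,
        ∑ a, ev hs (PowerSeries.map (algebraMap K L) (p a)) * y a = 0 → ∀ a, PowerSeries.coeff 0 (p a) = 0 := by
      intro p hp c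
      have hco : ∀ a, PowerSeries.coeff c.2.1 (ev hs (PowerSeries.map (algebraMap K L) (p a)) * y a) =
          if a.2 = c.2 then algebraMap K L (PowerSeries.coeff 0 (p a)) * ω a.1 else 0 := fun a => by
        have h1 : ∀ q : PowerSeries L, PowerSeries.coeff c.2.1 (s * q) = 0 := fun q => by
          rw [hsw, mul_assoc, PowerSeries.coeff_X_pow_mul', if_neg (by omega)]
        obtain ⟨d, hd⟩ := hy a
        have h2 : PowerSeries.coeff c.2.1 (y a) = if a.2 = c.2 then ω a.1 else 0 := by
          rw [show y a = PowerSeries.C (ω a.1) * PowerSeries.X ^ a.2.1 - PowerSeries.X ^ e * d by rw [← hd]; ring,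
            map_sub, PowerSeries.coeff_X_pow_mul', if_neg (by omega), sub_zero, PowerSeries.coeff_C_mul_X_pow]
          exact if_congr ⟨fun h => Fin.ext h.symm, fun h => by rw [h]⟩ rfl rfl
        rw [ev_split hs, PowerSeries.coeff_map, add_mul, map_add, mul_assoc, h1, add_zero, PowerSeries.coeff_C_mul, h2,
          mul_ite, mul_zero]
      have h3 := congrArg (PowerSeries.coeff c.2.1) hp
      rw [map_sum, map_zero] at h3
      simp_rw [hco] at h3
      rw [Fintype.sum_prod_type] at h3
      simp only [Finset.sum_ite_eq', Finset.mem_univ, if_true, ← Algebra.smul_def] at h3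
      exact Fintype.linearIndependent_iff.1 ω.linearIndependent (fun a => PowerSeries.coeff 0 (p (a, c.2))) h3 c.1
    induction m with
    | zero => exact h0
    | succ m ih =>
      intro p hp a
      have := ih (fun a => PowerSeries.mk fun m => PowerSeries.coeff (m + 1) (p a)) (by
        refine (mul_eq_zero.1 ?_).resolve_left hs0
        rw [Finset.mul_sum, ← hp]
        refine Finset.sum_congr rfl fun a _ => ?_
        rw [ev_split hs (PowerSeries.map _ (p a)), PowerSeries.coeff_map, h0 p hp a, map_zero, map_zero, zero_add,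
          mul_assoc,
          show (PowerSeries.mk fun m => PowerSeries.coeff (m + 1) (PowerSeries.map (algebraMap K L) (p a))) =
            PowerSeries.map (algebraMap K L) (PowerSeries.mk fun m => PowerSeries.coeff (m + 1) (p a)) by ext; simp]) a
      simpa using this
  have hli : LinearIndependent K⸨X⸩ fun a => ((y a : PowerSeries L) : L⸨X⸩) := by
    rw [Fintype.linearIndependent_iff]
    intro g hg
    choose N₀ hN₀ using fun i => exists_shift (g i)
    let N := Finset.univ.sup N₀
    choose p hp using fun i => hN₀ i N (Finset.le_sup (Finset.mem_univ i))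
    have hXN : ((PowerSeries.X ^ N : PowerSeries K) : K⸨X⸩) ≠ 0 := by
      rw [single_mul_coe_eq]; simp
    have h1 : ∑ i, ev hs (PowerSeries.map (algebraMap K L) (p i)) * y i = 0 := by
      refine HahnSeries.ofPowerSeries_injective (Γ := ℤ) ?_
      rw [map_sum, map_zero]
      simp_rw [PowerSeries.coe_mul, ← sigma_coe hσ hsw he hs, ← hp, map_mul, mul_assoc, ← Finset.mul_sum]
      have h2 : ∑ i, σ (g i) * (y i : L⸨X⸩) = 0 := hg
      rw [h2, mul_zero]
    intro i
    have h3 : p i = 0 := PowerSeries.ext fun m => by rw [map_zero]; exact hrel m p h1 i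
    have h4 := hp i
    rw [h3, PowerSeries.coe_zero] at h4
    exact (mul_eq_zero.1 h4).resolve_left hXN
  haveI : Nonempty (Fin (Module.finrank K L) × Fin e) := ⟨(⟨0, Module.finrank_pos⟩, ⟨0, he⟩)⟩
  have htop := hli.span_eq_top_of_card_eq_finrank (Module.finrank_eq_card_basis b).symm
  intro z
  have hz : z ∈ Submodule.span K⸨X⸩ (Set.range fun a => ((y a : PowerSeries L) : L⸨X⸩)) := htop ▸ trivial
  induction hz using Submodule.span_induction with
  | mem v hv => obtain ⟨a, rfl⟩ := hv; exact hyV a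
  | zero => exact V.zero_mem
  | add _ _ _ _ h1 h2 => exact V.add_mem h1 h2
  | smul g v _ hv => exact V.mul_mem (hσV g) hv

/-- The local trace formula. -/
theorem trace_resExp (K L : Type u) (F E : Type v) [Field K] [Field L]
    [Field F] [Field E] [Algebra K F] [Algebra F E] [Algebra K E] [IsScalarTower K F E]
    [Algebra K L] [Algebra L E] [IsScalarTower K L E] [FiniteDimensional K L]
    (v : Valuation F (WithZero (Multiplicative ℤ))) (w : Valuation E (WithZero (Multiplicative ℤ)))
    [v.HasExtension w]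
    (φ : F →ₐ[K] K⸨X⸩) (hφ : LocRes.IsExpansionAt v φ) (hφs : Function.Surjective φ)
    (ψ : E →ₐ[L] L⸨X⸩) (hψ : LocRes.IsExpansionAt w ψ)
    (x : F) (y : E) :
    Algebra.trace K L (LocRes.resExp ψ y (algebraMap F E x)) =
      LocRes.resExp φ (Algebra.trace F E y) x := by
  let Φ : F ≃+* K⸨X⸩ := RingEquiv.ofBijective φ.toRingHom ⟨φ.toRingHom.injective, hφs⟩
  let σ : K⸨X⸩ →+* L⸨X⸩ := (ψ.toRingHom.comp (algebraMap F E)).comp Φ.symm.toRingHom
  have hσφ : ∀ f, σ (φ f) = ψ (algebraMap F E f) := fun f => by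
    show ψ (algebraMap F E (Φ.symm (Φ f))) = _
    rw [Φ.symm_apply_apply]
  have hint : ∀ p : PowerSeries K, ∃ q : PowerSeries L, σ (p : K⸨X⸩) = (q : L⸨X⸩) := fun p => by
    obtain ⟨f, hf⟩ := hφs (p : K⸨X⸩)
    obtain ⟨q, hq⟩ := (LaurentSeries.val_le_one_iff_eq_coe L (σ (p : K⸨X⸩))).1 (by
      rw [← hf, hσφ, hψ.1, Valuation.HasExtension.val_map_le_one_iff v w, ← hφ.1, hf]
      exact (LaurentSeries.val_le_one_iff_eq_coe K _).2 ⟨p, rfl⟩)
    exact ⟨q, hq.symm⟩
  obtain ⟨s, hsX⟩ := hint PowerSeries.X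
  have hv1 : Valued.v (s : L⸨X⸩) < 1 := by
    obtain ⟨f, hf⟩ := hφs ((PowerSeries.X : PowerSeries K) : K⸨X⸩)
    rw [← hsX, ← hf, hσφ, hψ.1, Valuation.HasExtension.val_map_lt_one_iff v w, ← hφ.1, hf,
      PowerSeries.coe_X, LaurentSeries.valuation_single_zpow, ← WithZero.exp_zero, WithZero.exp_lt_exp]
    norm_num
  have hs0 : (s : L⸨X⸩) ≠ 0 := by
    rw [← hsX, map_ne_zero_iff _ σ.injective, map_ne_zero_iff _ HahnSeries.ofPowerSeries_injective]
    exact PowerSeries.X_ne_zero
  obtain ⟨a, u₁, hu₁, hsu, hva⟩ := GrothLib.LocRes.exists_eq_single_mul hs0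
  rw [hva, ← WithZero.exp_zero, WithZero.exp_lt_exp] at hv1
  obtain ⟨e, rfl⟩ : ∃ e : ℕ, a = e := ⟨a.toNat, by omega⟩
  have hsw : s = PowerSeries.X ^ e * u₁ := HahnSeries.ofPowerSeries_injective (Γ := ℤ) (by
    rw [hsu, map_mul, HahnSeries.ofPowerSeries_X_pow])
  have he : 1 ≤ e := by omega
  have hw : IsUnit u₁ := PowerSeries.isUnit_iff_constantCoeff.2 (isUnit_iff_ne_zero.2 hu₁)
  have hs : PowerSeries.HasSubst s := PowerSeries.HasSubst.of_constantCoeff_zero' (by
    rw [hsw, map_mul, map_pow, PowerSeries.constantCoeff_X, zero_pow (by omega), zero_mul])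
  have hσ : IsSubst σ s := by
    refine ⟨hsX, fun c => ?_, hint⟩
    have h := LocRes.map_algebraMap φ c
    rw [Algebra.algebraMap_self, RingHom.id_apply] at h
    rw [← h, hσφ, ← IsScalarTower.algebraMap_apply, IsScalarTower.algebraMap_apply K L E, LocRes.map_algebraMap,
      Algebra.algebraMap_self, RingHom.id_apply]
  obtain ⟨t, ht⟩ := hψ.2.2
  have htv : Valued.v (ψ t) = WithZero.exp (-1) := by rw [hψ.1, ht]
  have ht0 : ψ t ≠ 0 := fun h => by rw [h, map_zero] at htv; exact WithZero.exp_ne_zero htv.symm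
  obtain ⟨a', u₀, hu₀, htu, hta⟩ := GrothLib.LocRes.exists_eq_single_mul ht0
  rw [hta, WithZero.exp_inj, neg_inj] at htv
  subst htv
  have hsurj : Function.Surjective ψ := fun z => by
    refine surjective_of_approx hσ hsw hw he hs ψ.toRingHom.fieldRange (fun g => ?_) (fun c => ?_) u₀ hu₀ ⟨t, ?_⟩ z
    · exact ⟨_, rfl⟩
    · refine ⟨algebraMap L E c, ?_⟩
      show ψ _ = _
      rw [LocRes.map_algebraMap, Algebra.algebraMap_self, RingHom.id_apply]
    · show ψ t = _
      rw [htu, PowerSeries.coe_mul, PowerSeries.coe_X]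
  letI := σ.toAlgebra
  have htr : φ (Algebra.trace F E y) = Algebra.trace K⸨X⸩ L⸨X⸩ (ψ y) := by
    rw [Algebra.trace_eq_of_equiv_equiv Φ (RingEquiv.ofBijective ψ.toRingHom ⟨ψ.toRingHom.injective, hsurj⟩)
      (RingHom.ext fun f => hσφ f) y]
    exact Φ.apply_symm_apply _
  rw [LocRes.resExp, LocRes.resExp, htr, ← hσφ, D_sigma hσ hsw he hs, ← mul_assoc,
    trace_res hσ hsw hw he hs, mul_comm (ψ y),
    show σ (LocRes.D K (φ x)) * ψ y = LocRes.D K (φ x) • ψ y from rfl, map_smul, smul_eq_mul, mul_comm]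

end GrothLib.LocTrace1
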