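import Groth.Agent.Lib.LocTrace1.Core

/-!
# The local trace formula for residues
-/

set_option autoImplicit false

universe u

open scoped LaurentSeries

noncomputable section

namespace GrothLib.LocTrace1

variable {K L : Type u} [Field K] [Field L] [Algebra K L]

/-- A homomorphism of Laurent series fields given by substitution of `s`. -/
structure IsSubst (σ : K⸨X⸩ →+* L⸨X⸩) (s : PowerSeries L) : Prop where
  map_X : σ (PowerSeries.X : PowerSeries K) = (s : L⸨X⸩)
  map_C : ∀ c : K, σ (HahnSeries.C c) = HahnSeries.C (algebraMap K L c)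
  exists_coe : ∀ p : PowerSeries K, ∃ q : PowerSeries L, σ (p : K⸨X⸩) = (q : L⸨X⸩)

variable {σ : K⸨X⸩ →+* L⸨X⸩} {s w : PowerSeries L} {e : ℕ}

theorem coe_pow' {R : Type u} [CommRing R] (p : PowerSeries R) (n : ℕ) :
    ((p ^ n : PowerSeries R) : R⸨X⸩) = (p : R⸨X⸩) ^ n := map_pow (HahnSeries.ofPowerSeries ℤ R) p n

theorem single_mul_coe_eq {R : Type u} [CommRing R] (N : ℕ) :
    ((PowerSeries.X ^ N : PowerSeries R) : R⸨X⸩) = HahnSeries.single (N : ℤ) (1 : R) :=
  HahnSeries.ofPowerSeries_X_pow N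

/-- Every Laurent series becomes a power series after multiplication by a high power of the variable. -/
theorem exists_shift {R : Type u} [CommRing R] (g : R⸨X⸩) :
    ∃ N₀ : ℕ, ∀ N ≥ N₀, ∃ p : PowerSeries R, ((PowerSeries.X ^ N : PowerSeries R) : R⸨X⸩) * g = (p : R⸨X⸩) := by
  refine ⟨(-g.order).toNat, fun N hN => ?_⟩
  obtain ⟨m, hm⟩ : ∃ m : ℕ, (m : ℤ) = (N : ℤ) + g.order := ⟨((N : ℤ) + g.order).toNat, by omega⟩
  refine ⟨PowerSeries.X ^ m * g.powerSeriesPart, ?_⟩
  conv_lhs => rw [← g.single_order_mul_powerSeriesPart]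
  rw [PowerSeries.coe_mul, single_mul_coe_eq, single_mul_coe_eq, ← mul_assoc, HahnSeries.single_mul_single, one_mul, hm]

theorem dvd_of_eq (hsw : s = PowerSeries.X ^ e * w) (he : 1 ≤ e) (N : ℕ) :
    (PowerSeries.X : PowerSeries L) ^ N ∣ s ^ N := by
  rw [hsw, mul_pow, ← pow_mul]
  exact (pow_dvd_pow _ (Nat.le_mul_of_pos_left _ he)).trans (dvd_mul_right _ _)

theorem sigma_coe (hσ : IsSubst σ s) (hsw : s = PowerSeries.X ^ e * w) (he : 1 ≤ e)
    (hs : PowerSeries.HasSubst s) (p : PowerSeries K) :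
    σ (p : K⸨X⸩) = ((ev hs (PowerSeries.map (algebraMap K L) p) : PowerSeries L) : L⸨X⸩) := by
  choose q hq using hσ.exists_coe
  let d : PowerSeries K → PowerSeries L := fun p => q p - ev hs (PowerSeries.map (algebraMap K L) p)
  have hd : ∀ p, d p = s * d (PowerSeries.mk fun m => PowerSeries.coeff (m + 1) p) := fun p => by
    have h1 : q p = PowerSeries.C (algebraMap K L (PowerSeries.coeff 0 p)) +
        s * q (PowerSeries.mk fun m => PowerSeries.coeff (m + 1) p) := by
      refine HahnSeries.ofPowerSeries_injective (Γ := ℤ) ?_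
      rw [map_add, map_mul, ← hq, ← hσ.map_X, ← hq, HahnSeries.ofPowerSeries_C, ← hσ.map_C, ← map_mul, ← map_add,
        ← HahnSeries.ofPowerSeries_C, ← map_mul, ← map_add]
      congr 2
      conv_lhs => rw [PowerSeries.eq_X_mul_shift_add_const p]
      rw [add_comm]
      simp
    simp only [d]
    conv_lhs => rw [h1, ev_split hs (PowerSeries.map (algebraMap K L) p)]
    rw [PowerSeries.coeff_map, mul_sub,
      show (PowerSeries.mk fun m => PowerSeries.coeff (m + 1) (PowerSeries.map (algebraMap K L) p)) =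
        PowerSeries.map (algebraMap K L) (PowerSeries.mk fun m => PowerSeries.coeff (m + 1) p) by ext; simp]
    abel
  have hN : ∀ N p, s ^ N ∣ d p := by
    intro N
    induction N with
    | zero => exact fun p => by rw [pow_zero]; exact one_dvd _
    | succ N ih => intro p; rw [hd p, pow_succ']; exact mul_dvd_mul_left _ (ih _)
  rw [hq]
  refine congrArg _ (sub_eq_zero.1 ?_)
  show d p = 0
  ext n
  rw [map_zero]
  exact PowerSeries.X_pow_dvd_iff.1 ((dvd_of_eq hsw he _).trans (hN (n + 1) p)) n (Nat.lt_succ_self n)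

/-- The chain rule. -/
theorem D_sigma (hσ : IsSubst σ s) (hsw : s = PowerSeries.X ^ e * w) (he : 1 ≤ e)
    (hs : PowerSeries.HasSubst s) (g : K⸨X⸩) :
    LocRes.D L (σ g) = σ (LocRes.D K g) * LocRes.D L (s : L⸨X⸩) := by
  have hp : ∀ p : PowerSeries K, LocRes.D L (σ (p : K⸨X⸩)) = σ (LocRes.D K (p : K⸨X⸩)) * LocRes.D L (s : L⸨X⸩) := by
    intro p
    rw [sigma_coe hσ hsw he hs, LocRes.D_coe, LocRes.D_coe, LocRes.D_coe, sigma_coe hσ hsw he hs, ← PowerSeries.coe_mul]
    refine congrArg _ ?_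
    simp only [ev, PowerSeries.coe_substAlgHom]
    rw [PowerSeries.derivative_subst hs]
    congr 2
    ext n
    simp [PowerSeries.coeff_derivative]
  obtain ⟨N, hN⟩ := exists_shift g
  obtain ⟨p, hp'⟩ := hN N le_rfl
  have h := hp p
  rw [← hp', map_mul, Derivation.leibniz, smul_eq_mul, smul_eq_mul, Derivation.leibniz, smul_eq_mul, smul_eq_mul,
    map_add, map_mul, map_mul, hp (PowerSeries.X ^ N)] at h
  have h0 : σ ((PowerSeries.X ^ N : PowerSeries K) : K⸨X⸩) ≠ 0 := by
    rw [map_ne_zero_iff _ σ.injective, single_mul_coe_eq]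
    simp
  refine mul_left_cancel₀ h0 ?_
  linear_combination h

section Basis

variable (hσ : IsSubst σ s) (hsw : s = PowerSeries.X ^ e * w) (hw : IsUnit w) (he : 1 ≤ e)
  (hs : PowerSeries.HasSubst s) {ι : Type} [Fintype ι] [DecidableEq ι] (ω : Module.Basis ι K L)

/-- The coordinate of a power series along a basis of the coefficients. -/
def comp (a : ι) (r : PowerSeries L) : PowerSeries K :=
  PowerSeries.mk fun m => ω.repr (PowerSeries.coeff m r) a

/-- The candidate basis. -/
def vec (a : ι × Fin e) : L⸨X⸩ := ((PowerSeries.C (ω a.1) * PowerSeries.X ^ a.2.1 : PowerSeries L) : L⸨X⸩)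

theorem sum_comp (r : PowerSeries L) :
    ∑ a, PowerSeries.C (ω a) * PowerSeries.map (algebraMap K L) (comp ω a r) = r := by
  ext m
  rw [map_sum]
  simp_rw [PowerSeries.coeff_C_mul, PowerSeries.coeff_map, comp, PowerSeries.coeff_mk, mul_comm (ω _),
    ← Algebra.smul_def]
  exact ω.sum_repr _

include hσ hsw he in
theorem expand (r : Fin e → PowerSeries L) :
    ((∑ j : Fin e, ev hs (r j) * PowerSeries.X ^ j.1 : PowerSeries L) : L⸨X⸩) =
      ∑ a : ι × Fin e, σ ((comp ω a.1 (r a.2) : PowerSeries K) : K⸨X⸩) * vec ω a := by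
  simp_rw [vec, sigma_coe hσ hsw he hs, ← PowerSeries.coe_mul]
  rw [← map_sum (HahnSeries.ofPowerSeries ℤ L)]
  refine congrArg _ ?_
  rw [Fintype.sum_prod_type, Finset.sum_comm]
  refine Finset.sum_congr rfl fun j _ => ?_
  conv_lhs => rw [← sum_comp ω (r j)]
  rw [map_sum, Finset.sum_mul]
  refine Finset.sum_congr rfl fun a _ => ?_
  rw [map_mul, ev_C]
  ring

include hσ hsw hw he hs in
theorem exists_basis :
    letI := σ.toAlgebra
    ∃ b : Module.Basis (ι × Fin e) K⸨X⸩ L⸨X⸩, ⇑b = vec ω := by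
  letI := σ.toAlgebra
  have hli : LinearIndependent K⸨X⸩ (vec (e := e) ω) := by
    rw [Fintype.linearIndependent_iff]
    intro g hg
    choose N₀ hN₀ using fun i => exists_shift (g i)
    let N := Finset.univ.sup N₀
    choose p hp using fun i => hN₀ i N (Finset.le_sup (Finset.mem_univ i))
    have hXN : ((PowerSeries.X ^ N : PowerSeries K) : K⸨X⸩) ≠ 0 := by
      rw [single_mul_coe_eq]; simp
    have h1 : ∑ i, σ ((p i : PowerSeries K) : K⸨X⸩) * vec ω i = 0 := by
      simp_rw [← hp, map_mul, mul_assoc, ← Finset.mul_sum]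
      have : ∑ i, σ (g i) * vec ω i = 0 := hg
      rw [this, mul_zero]
    let r : Fin e → PowerSeries L := fun j => ∑ a, PowerSeries.C (ω a) * PowerSeries.map (algebraMap K L) (p (a, j))
    have hcomp : ∀ a j, comp ω a (r j) = p (a, j) := fun a j => by
      ext m
      simp only [comp, r, PowerSeries.coeff_mk, map_sum, PowerSeries.coeff_C_mul, PowerSeries.coeff_map,
        mul_comm (ω _), ← Algebra.smul_def]
      have := congrFun (ω.repr_sum_self fun c => PowerSeries.coeff m (p (c, j))) a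
      rwa [map_sum] at this
    have h2 : ∑ j : Fin e, ev hs (r j) * PowerSeries.X ^ j.1 = 0 := by
      refine HahnSeries.ofPowerSeries_injective (Γ := ℤ) ?_
      rw [map_zero, expand hσ hsw he hs ω r]
      simp_rw [hcomp]
      exact h1
    have hr := coord_unique hsw hw he hs r h2
    intro i
    have : p i = 0 := by
      rw [← hcomp i.1 i.2, hr]
      ext m; simp [comp]
    have := hp i
    rw [‹p i = 0›, PowerSeries.coe_zero] at this
    exact (mul_eq_zero.1 this).resolve_left hXN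
  have hspan : ⊤ ≤ Submodule.span K⸨X⸩ (Set.range (vec (e := e) ω)) := by
    intro z _
    obtain ⟨N, hN⟩ := exists_shift z
    obtain ⟨q, hq⟩ := hN (e * N) (Nat.le_mul_of_pos_left _ he)
    have hz : z = (((PowerSeries.X ^ N : PowerSeries K) : K⸨X⸩))⁻¹ • ((w ^ N * q : PowerSeries L) : L⸨X⸩) := by
      rw [Algebra.smul_def, RingHom.algebraMap_toAlgebra, map_inv₀, sigma_coe hσ hsw he hs, map_pow, map_pow,
        PowerSeries.map_X, ev_X, PowerSeries.coe_mul, ← hq, hsw, mul_pow, ← pow_mul, PowerSeries.coe_mul]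
      have h1 : ((PowerSeries.X ^ (e * N) : PowerSeries L) : L⸨X⸩) ≠ 0 := by
        rw [single_mul_coe_eq]; simp
      have h2 : ((w ^ N : PowerSeries L) : L⸨X⸩) ≠ 0 :=
        (map_ne_zero_iff _ HahnSeries.ofPowerSeries_injective).2 (pow_ne_zero _ hw.ne_zero)
      field_simp
    rw [hz, eq_sum_coord hsw hw he hs (w ^ N * q), expand hσ hsw he hs ω]
    refine Submodule.smul_mem _ _ (Submodule.sum_mem _ fun a _ => ?_)
    exact Submodule.smul_mem _ _ (Submodule.subset_span ⟨a, rfl⟩)
  exact ⟨Module.Basis.mk hli hspan, Module.Basis.coe_mk hli hspan⟩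

theorem reduce_pow (hsw : s = PowerSeries.X ^ e * w) (hw : IsUnit w) (he : 1 ≤ e)
    (hs : PowerSeries.HasSubst s) (l : ℕ) :
    (PowerSeries.X : PowerSeries L) ^ l =
      ∑ j : Fin e, ev hs ((Polynomial.X ^ l %ₘ poly e hw).coeff j.1) * PowerSeries.X ^ j.1 := by
  have hlt : ∀ j ∈ (Finset.univ : Finset (Fin e)),
      (Polynomial.C (coord e hw (PowerSeries.X ^ e) j.1) * Polynomial.X ^ j.1).degree < (e : WithBot ℕ) :=
    fun j _ => (Polynomial.degree_C_mul_X_pow_le _ _).trans_lt (WithBot.coe_lt_coe.2 j.2)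
  have hlt' := (Polynomial.degree_sum_le _ _).trans_lt ((Finset.sup_lt_iff (WithBot.bot_lt_coe e)).2 hlt)
  have hmonic : (poly e hw).Monic := Polynomial.monic_X_pow_sub hlt'
  have hdeg : (poly e hw).degree = e :=
    (Polynomial.degree_sub_eq_left_of_degree_lt (by rw [Polynomial.degree_X_pow]; exact hlt')).trans
      (Polynomial.degree_X_pow e)
  let φ : Polynomial (PowerSeries L) →+* PowerSeries L :=
    Polynomial.eval₂RingHom (ev hs).toRingHom PowerSeries.X
  have hroot : φ (poly e hw) = 0 := by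
    rw [poly, map_sub, map_pow, map_sum]
    simp only [φ, Polynomial.coe_eval₂RingHom, Polynomial.eval₂_X, Polynomial.eval₂_mul, Polynomial.eval₂_C,
      Polynomial.eval₂_X_pow]
    exact sub_eq_zero.2 (eq_sum_coord hsw hw he hs _)
  set r := Polynomial.X ^ l %ₘ poly e hw with hr
  have hrdeg : r.natDegree < e := by
    rcases eq_or_ne r 0 with h | h
    · rw [h, Polynomial.natDegree_zero]; omega
    · exact (Polynomial.natDegree_lt_iff_degree_lt h).2 ((Polynomial.degree_modByMonic_lt _ hmonic).trans_eq hdeg)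
  have h := congrArg φ (Polynomial.modByMonic_add_div (Polynomial.X ^ l : Polynomial (PowerSeries L)) (poly e hw))
  rw [map_add, map_mul φ, hroot, zero_mul, add_zero, map_pow, ← hr] at h
  conv_lhs at h => rw [r.as_sum_range' e hrdeg, map_sum, ← Fin.sum_univ_eq_sum_range (fun i => φ (Polynomial.monomial i (r.coeff i)))]
  simp only [φ, Polynomial.coe_eval₂RingHom, Polynomial.eval₂_X, Polynomial.eval₂_monomial] at h
  exact h.symm

include hσ hsw hw he hs ω in
/-- The trace of an integral monomial. -/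
theorem trace_monomial (lam : L) (l : ℕ) :
    letI := σ.toAlgebra
    Algebra.trace K⸨X⸩ L⸨X⸩ ((PowerSeries.C lam * PowerSeries.X ^ l : PowerSeries L) : L⸨X⸩) =
      ((PowerSeries.mk fun m => Algebra.trace K L (lam *
        LocRes.res L (HahnSeries.single (l : ℤ) 1 * LocRes.D L (s : L⸨X⸩) * ((s : L⸨X⸩) ^ (m + 1))⁻¹)) :
          PowerSeries K) : K⸨X⸩) := by
  letI := σ.toAlgebra
  obtain ⟨b, hb⟩ := exists_basis hσ hsw hw he hs ω
  let r : ι × Fin e → Fin e → PowerSeries L := fun a j =>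
    PowerSeries.C (lam * ω a.1) * (Polynomial.X ^ (l + a.2.1) %ₘ poly e hw).coeff j.1
  have hdiag : ∀ a : ι × Fin e,
      Algebra.leftMulMatrix b ((PowerSeries.C lam * PowerSeries.X ^ l : PowerSeries L) : L⸨X⸩) a a =
        ((comp ω a.1 (r a a.2) : PowerSeries K) : K⸨X⸩) := by
    intro a
    rw [Algebra.leftMulMatrix_eq_repr_mul, hb, vec, ← PowerSeries.coe_mul]
    have h1 : PowerSeries.C lam * PowerSeries.X ^ l * (PowerSeries.C (ω a.1) * PowerSeries.X ^ a.2.1) =
        ∑ j : Fin e, ev hs (r a j) * PowerSeries.X ^ j.1 := by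
      rw [mul_mul_mul_comm, ← map_mul, ← pow_add, reduce_pow hsw hw he hs, Finset.mul_sum]
      refine Finset.sum_congr rfl fun j _ => ?_
      simp only [r]
      rw [map_mul (ev hs), ev_C, mul_assoc]
    rw [h1, expand hσ hsw he hs ω]
    have h2 : ∑ c : ι × Fin e, σ ((comp ω c.1 (r a c.2) : PowerSeries K) : K⸨X⸩) * vec ω c =
        ∑ c : ι × Fin e, ((comp ω c.1 (r a c.2) : PowerSeries K) : K⸨X⸩) • b c :=
      Finset.sum_congr rfl fun c _ => by rw [hb, Algebra.smul_def, RingHom.algebraMap_toAlgebra]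
    rw [h2]
    exact congrFun (b.repr_sum_self fun c => ((comp ω c.1 (r a c.2) : PowerSeries K) : K⸨X⸩)) a
  rw [Algebra.trace_eq_matrix_trace b, Matrix.trace]
  simp only [Matrix.diag_apply, hdiag]
  rw [← map_sum (HahnSeries.ofPowerSeries ℤ K)]
  refine congrArg _ ?_
  ext m
  rw [map_sum, PowerSeries.coeff_mk, residue_eq_trace he hsw hw hs, map_sum, Finset.mul_sum, map_sum,
    Fintype.sum_prod_type, Finset.sum_comm]
  refine Finset.sum_congr rfl fun j _ => ?_
  rw [Algebra.trace_eq_matrix_trace ω, Matrix.trace]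
  refine Finset.sum_congr rfl fun a _ => ?_
  rw [Matrix.diag_apply, Algebra.leftMulMatrix_eq_repr_mul, comp, PowerSeries.coeff_mk]
  simp only [r, PowerSeries.coeff_C_mul]
  rw [mul_right_comm]

end Basis

/-- The local trace formula. -/
theorem trace_res [FiniteDimensional K L] (hσ : IsSubst σ s) (hsw : s = PowerSeries.X ^ e * w) (hw : IsUnit w)
    (he : 1 ≤ e) (hs : PowerSeries.HasSubst s) (z : L⸨X⸩) :
    letI := σ.toAlgebra
    Algebra.trace K L (LocRes.res L (z * LocRes.D L (s : L⸨X⸩))) =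
      LocRes.res K (Algebra.trace K⸨X⸩ L⸨X⸩ z) := by
  letI := σ.toAlgebra
  let ω := Module.finBasis K L
  obtain ⟨b, hb⟩ := exists_basis hσ hsw hw he hs ω
  rw [← b.sum_repr z, Finset.sum_mul, map_sum, map_sum, map_sum, map_sum]
  refine Finset.sum_congr rfl fun a _ => ?_
  generalize b.repr z a = g
  rw [hb, map_smul, smul_eq_mul, Algebra.smul_def, RingHom.algebraMap_toAlgebra, vec,
    trace_monomial hσ hsw hw he hs ω]
  set S : PowerSeries K := PowerSeries.mk fun m => Algebra.trace K L (ω a.1 *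
    LocRes.res L (HahnSeries.single (a.2.1 : ℤ) 1 * LocRes.D L (s : L⸨X⸩) * ((s : L⸨X⸩) ^ (m + 1))⁻¹)) with hS
  have hint : ∀ p : PowerSeries L, LocRes.res L ((p : L⸨X⸩) * LocRes.D L (s : L⸨X⸩)) = 0 := fun p => by
    rw [LocRes.D_coe, ← PowerSeries.coe_mul, LocRes.res_apply, PowerSeries.coeff_coe, if_pos (by norm_num)]
  have hint' : ∀ p : PowerSeries K, LocRes.res K (p : K⸨X⸩) = 0 := fun p => by
    rw [LocRes.res_apply, PowerSeries.coeff_coe, if_pos (by norm_num)]
  obtain ⟨N, hN⟩ := exists_shift g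
  obtain ⟨p, hp⟩ := hN N le_rfl
  clear hN
  induction N generalizing g p with
  | zero =>
    rw [pow_zero, PowerSeries.coe_one, one_mul] at hp
    rw [hp, sigma_coe hσ hsw he hs, ← PowerSeries.coe_mul, hint, map_zero, ← PowerSeries.coe_mul, hint']
  | succ N ih =>
    have hg : g = HahnSeries.C (PowerSeries.coeff 0 p) * (((PowerSeries.X : PowerSeries K) : K⸨X⸩) ^ (N + 1))⁻¹ +
        (((PowerSeries.X : PowerSeries K) : K⸨X⸩) ^ N)⁻¹ * ((PowerSeries.mk fun m => PowerSeries.coeff (m + 1) p : PowerSeries K) : K⸨X⸩) := by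
      have hX : ((PowerSeries.X : PowerSeries K) : K⸨X⸩) ≠ 0 := by
        rw [map_ne_zero_iff _ HahnSeries.ofPowerSeries_injective]; exact PowerSeries.X_ne_zero
      rw [coe_pow'] at hp
      rw [show g = (((PowerSeries.X : PowerSeries K) : K⸨X⸩) ^ (N + 1))⁻¹ * (p : K⸨X⸩) by
        rw [← hp, inv_mul_cancel_left₀ (pow_ne_zero _ hX)]]
      conv_lhs => rw [PowerSeries.eq_X_mul_shift_add_const p]
      rw [PowerSeries.coe_add, PowerSeries.coe_mul, PowerSeries.coe_C, PowerSeries.coeff_zero_eq_constantCoeff_apply, pow_succ]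
      field_simp
      ring
    have hpart := ih ((((PowerSeries.X : PowerSeries K) : K⸨X⸩) ^ N)⁻¹ *
      ((PowerSeries.mk fun m => PowerSeries.coeff (m + 1) p : PowerSeries K) : K⸨X⸩))
      (PowerSeries.mk fun m => PowerSeries.coeff (m + 1) p) (by
        rw [coe_pow', mul_inv_cancel_left₀ (pow_ne_zero _ ?_)]
        rw [map_ne_zero_iff _ HahnSeries.ofPowerSeries_injective]; exact PowerSeries.X_ne_zero)
    rw [hg, map_add σ, add_mul (σ _), add_mul (_ * _ : L⸨X⸩), map_add, map_add, hpart, add_mul _ _ (S : K⸨X⸩), map_add]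
    congr 1
    rw [map_mul σ, hσ.map_C, map_inv₀ σ, map_pow σ, hσ.map_X, PowerSeries.coe_mul, PowerSeries.coe_C, single_mul_coe_eq]
    have h1 : HahnSeries.C (algebraMap K L (PowerSeries.coeff 0 p)) * ((s : L⸨X⸩) ^ (N + 1))⁻¹ *
          (HahnSeries.C (ω a.1) * HahnSeries.single (a.2.1 : ℤ) 1) * LocRes.D L (s : L⸨X⸩) =
        (algebraMap K L (PowerSeries.coeff 0 p) * ω a.1) •
          (HahnSeries.single (a.2.1 : ℤ) 1 * LocRes.D L (s : L⸨X⸩) * ((s : L⸨X⸩) ^ (N + 1))⁻¹) := by
      rw [← HahnSeries.C_mul_eq_smul, map_mul]; ring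
    rw [h1, map_smul, smul_eq_mul, mul_assoc (algebraMap K L _), ← Algebra.smul_def, map_smul, smul_eq_mul,
      ← coe_pow' (R := K), single_mul_coe_eq, HahnSeries.inv_single, inv_one, mul_assoc (HahnSeries.C (PowerSeries.coeff 0 p)), HahnSeries.C_mul_eq_smul,
      map_smul, smul_eq_mul, LocRes.res_apply, LocRes.res_apply, HahnSeries.coeff_single_mul, one_mul,
      show (-1 : ℤ) - -((N + 1 : ℕ) : ℤ) = (N : ℤ) by push_cast; ring, LaurentSeries.coeff_coe_powerSeries, hS,
      PowerSeries.coeff_mk, LocRes.res_apply]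

end GrothLib.LocTrace1
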